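import Cfsg.Agent.Lib.UniDeg48.Fixed

/-!
The degree bound for `SU n` by induction `n → n - 2`.
-/

set_option autoImplicit false
set_option linter.unusedSectionVars false

namespace Cfsg.Agent.Lib.UniDeg48

open Matrix Module Cfsg.Agent.Lib.Unitary Cfsg.Agent.Lib.MinDegree

universe v

variable {F : Type*} [Field F] [Fintype F] {q : ℕ} {m : ℕ}

/-- Two leading zero coordinates. -/
def io (x : Fin m → F) : Fin (m + 2) → F := Fin.cons 0 (Fin.cons 0 x)

theorem herm_io (u v : Fin m → F) (hF : Fintype.card F = q ^ 2) :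
    hermForm (m + 2) F q (io u) (io v) = hermForm m F q u v := by
  simp [io, herm_succ, zero_pow_q hF]

theorem io_smul (l : F) (x : Fin m → F) : io (l • x) = l • io x := by
  ext i
  refine Fin.cases ?_ (fun i => Fin.cases ?_ (fun i => ?_) i) i <;> simp [io]

theorem io_ne_zero {x : Fin m → F} (hx : x ≠ 0) : io x ≠ 0 := fun h => hx (funext fun i => by
  have := congrFun h i.succ.succ
  simpa [io] using this)

/-- `GU m` inside `GU (m + 2)`. -/
noncomputable def emb2 (hF : Fintype.card F = q ^ 2) : GU m F q →* GU (m + 2) F q :=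
  (embGU hF).comp (embGU hF)

theorem emb2_mulVec (hF : Fintype.card F = q ^ 2) (A : GU m F q) (y : Fin (m + 2) → F) :
    (emb2 hF A).1.1 *ᵥ y = Fin.cons (y 0) (Fin.cons (y 1) (A.1.1 *ᵥ Fin.tail (Fin.tail y))) := by
  show embMat (embMat A.1.1) *ᵥ y = _
  rw [embMat_mulVec, embMat_mulVec]
  rfl

theorem emb2_io (hF : Fintype.card F = q ^ 2) (A : GU m F q) (x : Fin m → F) :
    (emb2 hF A).1.1 *ᵥ io x = io (A.1.1 *ᵥ x) := by
  rw [emb2_mulVec]
  rfl

theorem emb2_det (hF : Fintype.card F = q ^ 2) (A : GU m F q) :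
    (emb2 hF A).1.1.det = A.1.1.det := by
  show (embGU hF (embGU hF A)).1.1.det = _
  rw [embGU_det, embGU_det]

theorem exists_embS (hF : Fintype.card F = q ^ 2) (x : SU m F q) :
    ∃ X : SU (m + 2) F q, suToGU (m + 2) F q X = emb2 hF (suToGU m F q x) :=
  exists_pre _ (by rw [emb2_det]; simpa using x.1.2)

/-- `SU m` inside `SU (m + 2)`. -/
noncomputable def embS (hF : Fintype.card F = q ^ 2) : SU m F q →* SU (m + 2) F q :=
  MonoidHom.mk' (fun x => (exists_embS hF x).choose) fun a b => suToGU_injective (by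
    rw [map_mul (suToGU (m + 2) F q), (exists_embS hF a).choose_spec,
      (exists_embS hF b).choose_spec, (exists_embS hF (a * b)).choose_spec, map_mul, map_mul])

theorem act_embS (hF : Fintype.card F = q ^ 2) (x : SU m F q) (y : Fin (m + 2) → F) :
    act (embS hF x) y = Fin.cons (y 0) (Fin.cons (y 1) (act x (Fin.tail (Fin.tail y)))) := by
  rw [act, show suToGU (m + 2) F q (embS hF x) = _ from (exists_embS hF x).choose_spec, emb2_mulVec]

theorem embS_tv (hF : Fintype.card F = q ^ 2) (v : Fin m → F) (hv : hermForm m F q v v = 0)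
    (hiv : hermForm (m + 2) F q (io v) (io v) = 0) (c : T0 hF) :
    embS hF (tvHom hF v hv (Multiplicative.ofAdd c)) = tvHom hF (io v) hiv (Multiplicative.ofAdd c) := by
  apply su_ext
  intro y
  rw [act_embS, tvHom_act, tvHom_act]
  have h : hermForm (m + 2) F q y (io v) = hermForm m F q (Fin.tail (Fin.tail y)) v := by
    simp [io, herm_succ, zero_pow_q hF]
  rw [h]
  ext i
  refine Fin.cases ?_ (fun i => Fin.cases ?_ (fun i => ?_) i) i <;> simp [io, Fin.tail]

/-- The bound. -/
def bnd (q n : ℕ) : ℕ := if Even n then (q ^ n - 1) / (q + 1) else (q ^ n - q) / (q + 1)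

theorem bnd_le_step {q : ℕ} (hq : 1 < q) {n : ℕ} (hn : 4 ≤ n) :
    bnd q n ≤ bnd q (n - 2) + (q - 1) * q ^ (n - 2) := by
  obtain ⟨m, rfl⟩ : ∃ m, n = m + 2 := ⟨n - 2, by omega⟩
  rw [Nat.add_sub_cancel]
  have key : ∀ c : ℕ, c ≤ q ^ m → (q ^ (m + 2) - c) / (q + 1) =
      (q ^ m - c) / (q + 1) + (q - 1) * q ^ m := by
    intro c hc
    rw [← Nat.add_mul_div_left _ _ (by omega : 0 < q + 1)]
    congr 1
    obtain ⟨r, hr⟩ : ∃ r, q = r + 1 := ⟨q - 1, by omega⟩
    have h1 : q ^ (m + 2) = q ^ m + (q + 1) * ((q - 1) * q ^ m) := by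
      rw [hr, Nat.add_sub_cancel, pow_add]; ring
    rw [h1]
    omega
  have hqm : q ≤ q ^ m := Nat.le_self_pow (by omega) q
  by_cases he : Even m
  · rw [bnd, if_pos (by simpa [Nat.even_add] using he), bnd, if_pos he, key 1 (by omega)]
  · rw [bnd, if_neg (by simpa [Nat.even_add] using he), bnd, if_neg he, key q hqm]

theorem bnd_base {q : ℕ} (hq : 1 < q) {n : ℕ} (hn : n = 2 ∨ n = 3) :
    bnd q n ≤ (q - 1) * q ^ (n - 2) := by
  obtain ⟨r, rfl⟩ : ∃ r, q = r + 1 := ⟨q - 1, by omega⟩
  rcases hn with rfl | rfl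
  · rw [bnd, if_pos (by decide)]
    apply Nat.div_le_of_le_mul
    simp only [Nat.add_sub_cancel, Nat.sub_self, pow_zero, mul_one]
    rw [Nat.sub_le_iff_le_add]
    ring_nf; omega
  · rw [bnd, if_neg (by decide)]
    apply Nat.div_le_of_le_mul
    simp only [Nat.add_sub_cancel, pow_one]
    rw [Nat.sub_le_iff_le_add]
    ring_nf; omega

theorem deg_bound (hF : Fintype.card F = q ^ 2) :
    ∀ (n : ℕ), 2 ≤ n → ∀ (V : Type v) [AddCommGroup V] [Module ℂ V] [FiniteDimensional ℂ V]
      (σ : Representation ℂ (SU n F q) V), Scal hF σ →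
      (∃ (e : Fin n → F) (he : hermForm n F q e e = 0) (c : T0 hF), e ≠ 0 ∧
        σ (tvHom hF e he (Multiplicative.ofAdd c)) ≠ 1) →
      bnd q n ≤ finrank ℂ V := by
  classical
  intro n
  induction n using Nat.strong_induction_on with
  | _ n ih => ?_
  intro hn V _ _ _ σ hsc hnt
  have hq := one_lt_q hF
  obtain ⟨e₁, he₁, c₁, he₁0, hc₁⟩ := hnt
  by_cases h4 : n < 4
  · have := step_bound hF σ hsc he₁0 he₁ hc₁
    have := bnd_base hq (show n = 2 ∨ n = 3 by omega)
    omega
  obtain ⟨m, rfl⟩ : ∃ m, n = m + 2 := ⟨n - 2, by omega⟩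
  -- the standard isotropic vector
  obtain ⟨a, ha⟩ := norm_surj hF (y := -1) (by rw [neg_pow_q hF, one_pow])
  set e : Fin (m + 2) → F := Pi.single 0 1 + a • Pi.single 1 1 with hedef
  have he : hermForm (m + 2) F q e e = 0 := herm_single_pair hF (by simp) ha
  have he0 : e ≠ 0 := fun h => one_ne_zero (α := F) (by
    have := congrFun h 0
    simpa [hedef] using this)
  have hemb : ∀ (A : GU m F q), (emb2 hF A).1.1 *ᵥ e = e := by
    intro A
    rw [emb2_mulVec]
    have ht : Fin.tail (Fin.tail e) = 0 := funext fun i => by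
      simp [hedef, Fin.tail, Pi.single_apply, Fin.succ_ne_zero, Fin.ext_iff]
    rw [ht, mulVec_zero]
    ext i
    refine Fin.cases ?_ (fun i => Fin.cases ?_ (fun i => ?_) i) i <;>
      simp [hedef, Fin.ext_iff]
  obtain ⟨A, hAdet, hAe⟩ := exists_SU_isotropic hF (by omega) he₁0 he₁ he0 he
  obtain ⟨X, hX⟩ := exists_pre A hAdet
  have hc : σ (tvHom hF e he (Multiplicative.ofAdd c₁)) ≠ 1 := by
    intro h
    apply hc₁
    have hconj := tvHom_conj hF X he₁ he (by rw [act, hX, hAe]) c₁
    calc σ (tvHom hF e₁ he₁ (Multiplicative.ofAdd c₁))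
        = σ (X⁻¹ * (tvHom hF e he (Multiplicative.ofAdd c₁) * X)) := by
          rw [← hconj, inv_mul_cancel_left]
      _ = 1 := by rw [map_mul, map_mul, h, one_mul, ← map_mul, inv_mul_cancel, map_one]
  have hstep := step_bound hF σ hsc he0 he hc
  set C := fixT hF σ e he
  suffices hrec : bnd q m ≤ finrank ℂ C by
    have := bnd_le_step hq (show 4 ≤ m + 2 by omega)
    rw [Nat.add_sub_cancel] at this hstep
    change finrank ℂ C + _ ≤ _ at hstep
    omega
  -- the representation of `SU m` on the fixed space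
  have hCm : ∀ (x : SU m F q), ∀ w ∈ C, σ (embS hF x) w ∈ C := fun x w hw =>
    map_fixT hF σ (A := embS hF x) (by
      rw [act, show suToGU (m + 2) F q (embS hF x) = _ from (exists_embS hF x).choose_spec, hemb]) hw
  let σ' : Representation ℂ (SU m F q) C :=
    { toFun := fun x => (σ (embS hF x)).restrict (hCm x)
      map_one' := by
        apply LinearMap.ext; intro w; apply Subtype.ext
        show σ (embS hF 1) w.1 = w.1
        rw [map_one, map_one, Module.End.one_apply]
      map_mul' := fun x y => by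
        apply LinearMap.ext; intro w; apply Subtype.ext
        show σ (embS hF (x * y)) w.1 = σ (embS hF x) (σ (embS hF y) w.1)
        rw [map_mul, map_mul, Module.End.mul_apply] }
  refine ih m (by omega) (by omega) C σ' ?_ ?_
  · -- scalings
    intro v hv hv0 l hl
    obtain ⟨v', hvv'⟩ := exists_hyp hF hv0 hv
    obtain ⟨B, -, hBv, -, -⟩ := exists_GU_hyp_scale hF hvv' hl
    obtain ⟨μ, hμ0, hμ⟩ := exists_div_conj hF (inv_norm_one hF (det_norm_one hF B))
    obtain ⟨f, hef⟩ : ∃ f, Hyp q e f ∧ ∀ x : Fin m → F, hermForm (m + 2) F q (io x) f = 0 := by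
      obtain ⟨b, hb⟩ := trace_surj hF (y := -1) (by rw [neg_pow_q hF, one_pow])
      refine ⟨Pi.single 0 1 + b • e, ⟨he, ?_, ?_⟩, fun x => ?_⟩
      · simp [herm_add_left, herm_add_right _ _ _ hF, herm_smul_left, herm_smul_right,
          herm_std hF, hedef, Fin.ext_iff]
        linear_combination hb + b * b ^ q * ha
      · simp [herm_add_left, herm_add_right _ _ _ hF, herm_smul_left, herm_smul_right,
          herm_std hF, hedef, Fin.ext_iff]
        linear_combination b ^ q * ha
      · simp [io, hedef, herm_add_right _ _ _ hF, herm_smul_right, herm_single _ hF]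
    obtain ⟨hef, hfo⟩ := hef
    have heo : ∀ x : Fin m → F, hermForm (m + 2) F q (io x) e = 0 := fun x => by
      simp [io, hedef, herm_add_right _ _ _ hF, herm_smul_right, herm_single _ hF]
    obtain ⟨S, hSdet, hSe, -, hSfix⟩ := exists_GU_hyp_scale hF hef hμ0
    obtain ⟨Y, hY⟩ := exists_pre (emb2 hF B * S) (by
      have hd0 : B.1.1.det ≠ 0 := fun h0 => by simpa [h0] using det_norm_one hF B
      rw [Subgroup.coe_mul, Units.val_mul, det_mul, emb2_det, hSdet]
      have hμq : μ ^ q ≠ 0 := pow_ne_zero q hμ0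
      field_simp
      field_simp at hμ
      linear_combination hμ)
    have hYe : act Y e = μ • e := by
      rw [act, hY, GU_mul_mulVec, hSe, mulVec_smul, hemb]
    have hYv : act Y (io v) = io (l • v) := by
      rw [act, hY, GU_mul_mulVec, hSfix _ (heo v) (hfo v), emb2_io, hBv]
    have hμe : hermForm (m + 2) F q (μ • e) (μ • e) = 0 := by
      rw [herm_smul_left, herm_smul_right, he, mul_zero, mul_zero]
    have hmap : ∀ w ∈ C, σ Y w ∈ C := fun w hw => by
      have := map_fixT hF σ (hw := hμe) hYe hw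
      rwa [fixT_smul hF σ hμ0] at this
    have hmap' : ∀ w ∈ C, σ Y⁻¹ w ∈ C := fun w hw => by
      refine map_fixT hF σ (v := μ • e) (hv := hμe) ?_ (by rwa [fixT_smul hF σ hμ0])
      rw [← hYe, ← act_mul, inv_mul_cancel, act, map_one, GU_one_mulVec]
    refine ⟨LinearEquiv.ofLinearMap ((σ Y).restrict hmap) ((σ Y⁻¹).restrict hmap')
      (LinearMap.ext fun w => Subtype.ext (by
        show σ Y (σ Y⁻¹ w.1) = w.1
        rw [← Module.End.mul_apply, ← map_mul, mul_inv_cancel, map_one, Module.End.one_apply]))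
      (LinearMap.ext fun w => Subtype.ext (by
        show σ Y⁻¹ (σ Y w.1) = w.1
        rw [← Module.End.mul_apply, ← map_mul, inv_mul_cancel, map_one, Module.End.one_apply])),
      fun c d hd x => Subtype.ext ?_⟩
    show σ (embS hF _) (σ Y x.1) = σ Y (σ (embS hF _) x.1)
    have hiv : hermForm (m + 2) F q (io v) (io v) = 0 := by rw [herm_io _ _ hF, hv]
    have hliv : hermForm (m + 2) F q (io (l • v)) (io (l • v)) = 0 := by
      rw [herm_io _ _ hF, herm_smul_left, herm_smul_right, hv, mul_zero, mul_zero]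
    rw [embS_tv hF v hv hiv, embS_tv hF v hv hiv, ← Module.End.mul_apply, ← map_mul,
      ← Module.End.mul_apply, ← map_mul, tvHom_conj hF Y hiv hliv hYv c]
    have hlv' : hermForm (m + 2) F q (l • io v) (l • io v) = 0 := by
      rw [herm_smul_left, herm_smul_right, hiv, mul_zero, mul_zero]
    rw [show tvHom hF (io (l • v)) hliv (Multiplicative.ofAdd c) =
        tvHom hF (io v) hiv (Multiplicative.ofAdd d) from by
      rw [← tvHom_smul hF hiv hlv' c d hd]
      apply su_ext; intro y
      rw [tvHom_act, tvHom_act, io_smul]]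
  · -- non-triviality
    obtain ⟨u, hu, c, hliu, heu, x, hx, hne⟩ :=
      exists_orth_nontrivial hF σ (by omega) he0 he hc
    obtain ⟨b, hb⟩ := norm_surj hF (y := -1) (by rw [neg_pow_q hF, one_pow])
    let i : Fin m := ⟨0, by omega⟩
    let j : Fin m := ⟨1, by omega⟩
    set v : Fin m → F := Pi.single i 1 + b • Pi.single j 1 with hvdef
    have hv : hermForm m F q v v = 0 := herm_single_pair hF (by simp [i, j, Fin.ext_iff]) hb
    have hv0 : v ≠ 0 := fun h => one_ne_zero (α := F) (by
      have := congrFun h i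
      simpa [hvdef, i, j, Fin.ext_iff] using this)
    have hiv : hermForm (m + 2) F q (io v) (io v) = 0 := by rw [herm_io _ _ hF, hv]
    have hev : hermForm (m + 2) F q e (io v) = 0 := herm_eq_zero_symm hF (by
      simp [io, hedef, herm_add_right _ _ _ hF, herm_smul_right, herm_single _ hF])
    have hli : LinearIndependent F ![e, io v] := by
      rw [LinearIndependent.pair_iff]
      intro s t hst
      have h0 := congrFun hst 0
      simp [hedef, io] at h0
      rw [h0, zero_smul, zero_add, smul_eq_zero] at hst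
      exact ⟨h0, hst.resolve_right (io_ne_zero hv0)⟩
    obtain ⟨B, s, hs, hBdet, hBe, hBu⟩ := exists_SU_isotropic_pair hF hliu he hu heu hli he hiv hev
    obtain ⟨Y, hY⟩ := exists_pre B hBdet
    have hse : hermForm (m + 2) F q (s • e) (s • e) = 0 := by
      rw [herm_smul_left, herm_smul_right, he, mul_zero, mul_zero]
    have hx' : σ Y x ∈ C := by
      have := map_fixT hF σ (hw := hse) (show act Y e = s • e by rw [act, hY, hBe]) hx
      rwa [fixT_smul hF σ hs] at this
    refine ⟨v, hv, c, hv0, fun h => hne ?_⟩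
    have h2 := congrArg Subtype.val (LinearMap.congr_fun h ⟨σ Y x, hx'⟩)
    change σ (embS hF _) (σ Y x) = σ Y x at h2
    rw [embS_tv hF v hv hiv, ← Module.End.mul_apply, ← map_mul,
      ← tvHom_conj hF Y hu hiv (by rw [act, hY, hBu]) c, map_mul, Module.End.mul_apply] at h2
    have h3 := congrArg (σ Y⁻¹) h2
    rwa [← Module.End.mul_apply, ← map_mul, inv_mul_cancel, map_one, Module.End.one_apply,
      ← Module.End.mul_apply, ← map_mul, inv_mul_cancel, map_one, Module.End.one_apply] at h3

/-- The bound for irreducible representations of degree at least two. -/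
theorem irreducible_bound (hF : Fintype.card F = q ^ 2) {n : ℕ} (hn : 3 ≤ n)
    (h32 : ¬ (n = 3 ∧ q = 2)) {k : ℕ} (ρ : Representation ℂ (SU n F q) (Fin k → ℂ))
    (hρ : ρ.IsIrreducible) (hk : 2 ≤ k) : bnd q n ≤ k := by
  have hfin : finrank ℂ (Fin k → ℂ) = k := Module.finrank_fin_fun ℂ
  rw [← hfin]
  refine deg_bound hF n (by omega) (Fin k → ℂ) ρ (scal_of_three hF hn ρ) ?_
  by_contra hcon
  push Not at hcon
  have hall : ∀ g, ρ g = 1 := by
    intro g
    have hle : Subgroup.closure {A : SU n F q | IsTv (suToGU n F q A)} ≤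
        MonoidHom.ker (ρ : SU n F q →* Module.End ℂ (Fin k → ℂ)) := by
      refine (Subgroup.closure_le _).2 fun A hA => ?_
      obtain ⟨v, c, hv, hc, hT⟩ := hA
      show ρ A = 1
      rcases eq_or_ne v 0 with rfl | hv0
      · have : A = 1 := su_ext fun x => by
          rw [act, hT x, smul_zero, add_zero, act, map_one, GU_one_mulVec]
        rw [this, map_one]
      · rw [show A = tvHom hF v hv (Multiplicative.ofAdd ⟨c, mem_T0.2 hc⟩) from
          su_ext fun x => by rw [act, hT x, tvHom_act]]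
        exact hcon v hv _ hv0
    exact hle (by rw [suTransvections_closure hF hn h32]; trivial)
  have := finrank_le_one_of_trivial hρ hall
  omega

end Cfsg.Agent.Lib.UniDeg48
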