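import Cfsg.Agent.Lib.MinDegree.Basic

/-!
Eigenspaces of an abelian subgroup in a complex representation and the size of a projective
family of operators with non-degenerate commutator pairing.
-/

set_option autoImplicit false

namespace Cfsg.Agent.Lib.UniDeg48

open Module Cfsg.Agent.Lib.MinDegree

variable {G : Type*} [Group G] {V : Type*} [AddCommGroup V] [Module ℂ V]
variable (ρ : Representation ℂ G V) {A : Type*} [AddCommGroup A]
variable (τ : Multiplicative A →* G)

/-- The eigenspace of a character. -/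
def eigSub (χ : AddChar A ℂ) : Submodule ℂ V :=
  ⨅ a : A, LinearMap.ker (ρ (τ (Multiplicative.ofAdd a)) - χ a • (1 : Module.End ℂ V))

theorem mem_eigSub {χ : AddChar A ℂ} {v : V} :
    v ∈ eigSub ρ τ χ ↔ ∀ a, ρ (τ (Multiplicative.ofAdd a)) v = χ a • v := by
  simp [eigSub, Submodule.mem_iInf, LinearMap.mem_ker, sub_eq_zero]

theorem occurs_iff_eigSub {χ : AddChar A ℂ} : Occurs ρ τ χ ↔ eigSub ρ τ χ ≠ ⊥ := by
  rw [Submodule.ne_bot_iff]
  simp only [mem_eigSub]
  exact ⟨fun ⟨v, h1, h2⟩ => ⟨v, h2, h1⟩, fun ⟨v, h2, h1⟩ => ⟨v, h1, h2⟩⟩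

theorem range_eigenProj [Fintype A] (χ : AddChar A ℂ) :
    LinearMap.range (eigenProj ρ τ χ) = eigSub ρ τ χ := by
  apply le_antisymm
  · rintro _ ⟨v, rfl⟩
    exact (mem_eigSub ρ τ).2 fun a => eigenProj_mem ρ τ χ v a
  · intro v hv
    rw [mem_eigSub] at hv
    refine ⟨v, ?_⟩
    rw [eigenProj_apply]
    simp only [hv, smul_smul, ← AddChar.map_add_eq_mul, neg_add_cancel, AddChar.map_zero_eq_one,
      one_smul, Finset.sum_const, Finset.card_univ]
    rw [← Nat.cast_smul_eq_nsmul ℂ, smul_smul,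
      inv_mul_cancel₀ (Nat.cast_ne_zero.2 Fintype.card_ne_zero), one_smul]

theorem sum_finrank_eigSub [Fintype A] [FiniteDimensional ℂ V] :
    ∑ χ : AddChar A ℂ, finrank ℂ (eigSub ρ τ χ) = finrank ℂ V := by
  have hproj : ∀ χ, LinearMap.IsProj (eigSub ρ τ χ) (eigenProj ρ τ χ) := by
    intro χ
    refine ⟨fun v => range_eigenProj ρ τ χ ▸ LinearMap.mem_range_self _ v, fun v hv => ?_⟩
    rw [mem_eigSub] at hv
    rw [eigenProj_apply]
    simp only [hv, smul_smul, ← AddChar.map_add_eq_mul, neg_add_cancel, AddChar.map_zero_eq_one,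
      one_smul, Finset.sum_const, Finset.card_univ]
    rw [← Nat.cast_smul_eq_nsmul ℂ, smul_smul,
      inv_mul_cancel₀ (Nat.cast_ne_zero.2 Fintype.card_ne_zero), one_smul]
  have h1 : (∑ χ : AddChar A ℂ, eigenProj ρ τ χ) = 1 :=
    LinearMap.ext fun v => by rw [LinearMap.sum_apply, sum_eigenProj, Module.End.one_apply]
  have h2 := congrArg (LinearMap.trace ℂ V) h1
  rw [map_sum, LinearMap.trace_one, Finset.sum_congr rfl fun χ _ => (hproj χ).trace] at h2
  exact_mod_cast h2

/-- A subset of the characters gives a lower bound. -/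
theorem add_card_mul_le [Fintype A] [FiniteDimensional ℂ V] (s : Finset (AddChar A ℂ))
    (h1 : (1 : AddChar A ℂ) ∉ s) {d : ℕ} (hd : ∀ χ ∈ s, d ≤ finrank ℂ (eigSub ρ τ χ)) :
    finrank ℂ (eigSub ρ τ 1) + s.card * d ≤ finrank ℂ V := by
  classical
  rw [← sum_finrank_eigSub ρ τ]
  calc finrank ℂ (eigSub ρ τ 1) + s.card * d
      ≤ finrank ℂ (eigSub ρ τ 1) + ∑ χ ∈ s, finrank ℂ (eigSub ρ τ χ) :=
        Nat.add_le_add_left (by simpa [nsmul_eq_mul] using Finset.card_nsmul_le_sum s _ d hd) _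
    _ = ∑ χ ∈ insert 1 s, finrank ℂ (eigSub ρ τ χ) :=
        (Finset.sum_insert (f := fun χ => finrank ℂ (eigSub ρ τ χ)) h1).symm
    _ ≤ _ := Finset.sum_le_sum_of_subset (Finset.subset_univ _)

/-- An element commuting with the abelian subgroup preserves the eigenspaces. -/
theorem map_eigSub {χ : AddChar A ℂ} (g : G)
    (hg : ∀ a, Commute g (τ (Multiplicative.ofAdd a))) {v : V} (hv : v ∈ eigSub ρ τ χ) :
    ρ g v ∈ eigSub ρ τ χ := by
  rw [mem_eigSub] at hv ⊢
  intro a
  rw [← Module.End.mul_apply, ← map_mul, ← (hg a).eq, map_mul, Module.End.mul_apply, hv, map_smul]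

/-- A projective family of operators with non-degenerate commutator pairing is linearly
independent. -/
theorem card_le_sq_of_projective {K : Type*} [AddCommGroup K] [Finite K] {W : Type*}
    [AddCommGroup W] [Module ℂ W] [FiniteDimensional ℂ W] (hW : 0 < finrank ℂ W)
    (P : K → Module.End ℂ W) (c : K → K → ℂ) (hc : ∀ a b, c a b ≠ 0) (h0 : P 0 = 1)
    (hP : ∀ a b, P a * P b = c a b • P (a + b)) (hnd : ∀ a, a ≠ 0 → ∃ b, c a b ≠ c b a) :
    Nat.card K ≤ finrank ℂ W * finrank ℂ W := by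
  classical
  have := Fintype.ofFinite K
  have hu : ∀ a, ∃ u : (Module.End ℂ W)ˣ, (u : Module.End ℂ W) = P a := fun a =>
    ⟨⟨P a, (c a (-a))⁻¹ • P (-a), by
        rw [mul_smul_comm, hP, add_neg_cancel, h0, smul_smul, inv_mul_cancel₀ (hc _ _), one_smul],
      by
        have h1 : P a * ((c a (-a))⁻¹ • P (-a)) = 1 := by
          rw [mul_smul_comm, hP, add_neg_cancel, h0, smul_smul, inv_mul_cancel₀ (hc _ _), one_smul]
        exact mul_eq_one_comm.1 h1⟩, rfl⟩
  have htr : ∀ a, a ≠ 0 → LinearMap.trace ℂ W (P a) = 0 := by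
    intro a ha
    obtain ⟨b, hb⟩ := hnd a ha
    obtain ⟨u, hu'⟩ := hu b
    have hcomm : c b a • (P a * P b) = c a b • (P b * P a) := by
      rw [hP, hP, smul_smul, smul_smul, mul_comm (c b a), add_comm b a]
    have h3 := congrArg (fun T => LinearMap.trace ℂ W (T * (↑u⁻¹ : Module.End ℂ W))) hcomm
    simp only [smul_mul_assoc, map_smul, smul_eq_mul] at h3
    rw [← hu', mul_assoc, Units.mul_inv, mul_one, LinearMap.trace_mul_comm,
      Units.inv_mul_cancel_left] at h3
    have h4 : (c b a - c a b) * LinearMap.trace ℂ W (P a) = 0 := by linear_combination h3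
    exact (mul_eq_zero.1 h4).resolve_left (sub_ne_zero.2 (Ne.symm hb))
  have hli : LinearIndependent ℂ P := by
    rw [Fintype.linearIndependent_iff]
    intro g hg s
    have h1 := congrArg (fun T => LinearMap.trace ℂ W (T * P (-s))) hg
    simp only [Finset.sum_mul, smul_mul_assoc, hP, map_sum, map_smul, zero_mul, map_zero,
      smul_eq_mul] at h1
    rw [Finset.sum_eq_single s] at h1
    · rw [add_neg_cancel, h0, LinearMap.trace_one] at h1
      simpa [hc, hW.ne'] using h1
    · intro t _ hts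
      rw [htr _ (fun h => hts (by rwa [add_neg_eq_zero] at h))]
      ring
    · simp
  rw [Nat.card_eq_fintype_card, ← Module.finrank_linearMap (R := ℂ) (S := ℂ) (M := W) (N := W)]
  exact hli.fintype_card_le_finrank

end Cfsg.Agent.Lib.UniDeg48
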