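import Cfsg.Agent.Lib.UniDeg48.Plane

/-!
For `n ≥ 4` some transvection orthogonal to `e` acts non-trivially on the fixed space of the
transvection group of `e`.
-/

set_option autoImplicit false
set_option linter.unusedSectionVars false

namespace Cfsg.Agent.Lib.UniDeg48

open Matrix Module Cfsg.Agent.Lib.Unitary Cfsg.Agent.Lib.MinDegree

variable {F : Type*} [Field F] [Fintype F] {q : ℕ} {n : ℕ}
variable {V : Type*} [AddCommGroup V] [Module ℂ V]
variable (hF : Fintype.card F = q ^ 2) (σ : Representation ℂ (SU n F q) V)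

/-- The fixed space of a transvection group. -/
noncomputable abbrev fixT (v : Fin n → F) (hv : hermForm n F q v v = 0) : Submodule ℂ V :=
  eigSub σ (tvHom hF v hv) 1

theorem mem_fixT {v : Fin n → F} {hv : hermForm n F q v v = 0} {x : V} :
    x ∈ fixT hF σ v hv ↔ ∀ c, σ (tvHom hF v hv (Multiplicative.ofAdd c)) x = x := by
  simp [mem_eigSub]

theorem map_fixT {A : SU n F q} {v w : Fin n → F} {hv : hermForm n F q v v = 0}
    {hw : hermForm n F q w w = 0} (h : act A v = w) {x : V} (hx : x ∈ fixT hF σ v hv) :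
    σ A x ∈ fixT hF σ w hw := by
  rw [mem_fixT] at hx ⊢
  intro c
  rw [← Module.End.mul_apply, ← map_mul, ← tvHom_conj hF A hv hw h c, map_mul,
    Module.End.mul_apply, hx]

theorem fixT_smul {v : Fin n → F} {hv : hermForm n F q v v = 0} {l : F} (hl : l ≠ 0)
    (hlv : hermForm n F q (l • v) (l • v) = 0) : fixT hF σ (l • v) hlv = fixT hF σ v hv := by
  have hN : (l * l ^ q) ^ q = l * l ^ q := by rw [mul_pow, pow_q_q hF, mul_comm]
  have hNi : ((l * l ^ q)⁻¹) ^ q = (l * l ^ q)⁻¹ := by rw [inv_pow, hN]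
  have hN0 : l * l ^ q ≠ 0 := mul_ne_zero hl (pow_ne_zero q hl)
  ext x
  rw [mem_fixT, mem_fixT]
  constructor
  · intro h c
    rw [← tvHom_smul hF hv hlv (mulT0 hF _ hNi c) c (by
      show c.1 = (l * l ^ q)⁻¹ * c.1 * (l * l ^ q)
      field_simp)]
    exact h _
  · intro h c
    rw [tvHom_smul hF hv hlv c (mulT0 hF _ hN c) (mul_comm _ _)]
    exact h _

include hF in
theorem exists_isotropic_orth (hn : 4 ≤ n) {e f : Fin n → F} (h : Hyp q e f) :
    ∃ w, w ≠ 0 ∧ hermForm n F q w w = 0 ∧ hermForm n F q w e = 0 ∧ hermForm n F q w f = 0 ∧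
      LinearIndependent F ![e, w] := by
  obtain ⟨g, hg, hgo, -⟩ := h.exists_complement hF
  obtain ⟨a, ha⟩ := norm_surj hF (y := -1) (by rw [neg_pow_q hF, one_pow])
  let i : Fin (n - 2) := ⟨0, by omega⟩
  let j : Fin (n - 2) := ⟨1, by omega⟩
  have hij : i ≠ j := by simp [i, j, Fin.ext_iff]
  have hwg : hermForm n F q (g i + a • g j) (g i) = 1 := by
    rw [herm_add_left, herm_smul_left, hg, hg, if_pos rfl, if_neg hij.symm, mul_zero, add_zero]
  have hw0 : g i + a • g j ≠ 0 := fun h0 => one_ne_zero (α := F) (by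
    rw [← hwg, h0, herm_zero_left])
  refine ⟨g i + a • g j, hw0, ?_, ?_, ?_, ?_⟩
  · simp only [herm_add_left, herm_add_right _ _ _ hF, herm_smul_left, herm_smul_right, hg _ _,
      if_pos, if_neg hij, if_neg hij.symm, mul_zero, add_zero, zero_add, mul_one]
    linear_combination ha
  · simp [herm_add_left, herm_smul_left, (hgo i).1, (hgo j).1]
  · simp [herm_add_left, herm_smul_left, (hgo i).2, (hgo j).2]
  · rw [LinearIndependent.pair_iff]
    intro s t hst
    have h1 := congrArg (fun x => hermForm n F q x f) hst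
    simp [herm_add_left, herm_smul_left, herm_zero_left, h.2.2, (hgo i).2, (hgo j).2] at h1
    rw [h1, zero_smul, zero_add, smul_eq_zero] at hst
    exact ⟨h1, hst.resolve_right hw0⟩

theorem exists_orth_nontrivial [FiniteDimensional ℂ V] (hn : 4 ≤ n) {e : Fin n → F} (he0 : e ≠ 0)
    (he : hermForm n F q e e = 0) {c₀ : T0 hF}
    (hc₀ : σ (tvHom hF e he (Multiplicative.ofAdd c₀)) ≠ 1) :
    ∃ (u : Fin n → F) (hu : hermForm n F q u u = 0) (c : T0 hF), LinearIndependent F ![e, u] ∧
      hermForm n F q e u = 0 ∧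
      ∃ x ∈ fixT hF σ e he, σ (tvHom hF u hu (Multiplicative.ofAdd c)) x ≠ x := by
  classical
  by_contra hcon
  push Not at hcon
  obtain ⟨f, hf⟩ := exists_hyp hF he0 he
  obtain ⟨u, -, hu, hue, -, hliu⟩ := exists_isotropic_orth hF hn hf
  have heu := herm_eq_zero_symm hF hue
  -- orthogonal independent pairs
  have hpair : ∀ (a b : Fin n → F) (ha : hermForm n F q a a = 0) (hb : hermForm n F q b b = 0),
      LinearIndependent F ![a, b] → hermForm n F q a b = 0 → fixT hF σ a ha ≤ fixT hF σ b hb := by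
    intro a b ha hb hli hab x hx
    obtain ⟨A, s, hs, hAdet, hAe, hAu⟩ := exists_SU_isotropic_pair hF hliu he hu heu hli ha hb hab
    obtain ⟨X, hX⟩ := exists_pre A hAdet
    have hsa : hermForm n F q (s • a) (s • a) = 0 := by
      rw [herm_smul_left, herm_smul_right, ha, mul_zero, mul_zero]
    have hXe : act X e = s • a := by rw [act, hX, hAe]
    have hXu : act X u = b := by rw [act, hX, hAu]
    have hx' : σ X⁻¹ x ∈ fixT hF σ e he := by
      refine map_fixT hF σ (v := s • a) (hv := hsa) ?_ (by rwa [fixT_smul hF σ hs])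
      rw [← hXe, ← act_mul, inv_mul_cancel, act, map_one, GU_one_mulVec]
    have h := map_fixT hF σ (w := b) (hw := hb) hXu
      ((mem_fixT hF σ).2 fun c => hcon u hu c hliu heu _ hx')
    rwa [← Module.End.mul_apply, ← map_mul, mul_inv_cancel, map_one, Module.End.one_apply] at h
  have hall : ∀ (a b : Fin n → F) (ha : hermForm n F q a a = 0) (hb : hermForm n F q b b = 0),
      a ≠ 0 → b ≠ 0 → fixT hF σ a ha ≤ fixT hF σ b hb := by
    intro a b ha hb ha0 hb0
    by_cases hli : LinearIndependent F ![a, b]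
    · by_cases hab : hermForm n F q a b = 0
      · exact hpair a b ha hb hli hab
      · obtain ⟨l, hl⟩ : ∃ l : F, l ^ q = (hermForm n F q a b)⁻¹ :=
          ⟨((hermForm n F q a b)⁻¹) ^ q, pow_q_q hF _⟩
        have hab' : Hyp q a (l • b) := ⟨ha, by rw [herm_smul_left, herm_smul_right, hb, mul_zero,
          mul_zero], by rw [herm_smul_right, hl, inv_mul_cancel₀ hab]⟩
        obtain ⟨w, hw0, hw, hwa, hwb, hliw⟩ := exists_isotropic_orth hF hn hab'
        rw [herm_smul_right, hl] at hwb
        have hwb' : hermForm n F q w b = 0 :=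
          (mul_eq_zero.1 hwb).resolve_left (inv_ne_zero hab)
        refine (hpair a w ha hw hliw (herm_eq_zero_symm hF hwa)).trans (hpair w b hw hb ?_ hwb')
        rw [LinearIndependent.pair_iff]
        intro s t hst
        have h1 := congrArg (fun x => hermForm n F q x a) hst
        simp [herm_add_left, herm_smul_left, herm_zero_left, hwa] at h1
        have h2 : hermForm n F q b a ≠ 0 := fun h => hab (herm_eq_zero_symm hF h)
        rw [h1.resolve_right h2, zero_smul, add_zero, smul_eq_zero] at hst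
        exact ⟨hst.resolve_right hw0, h1.resolve_right h2⟩
    · rw [LinearIndependent.pair_iff' ha0] at hli
      push Not at hli
      obtain ⟨l, rfl⟩ := hli
      exact le_of_eq (fixT_smul hF σ (hv := ha) (fun h => hb0 (by rw [h, zero_smul])) hb).symm
  let C : Subrepresentation σ := ⟨fixT hF σ e he, fun A x hx => by
    have h1 := act_isotropic A he
    have h2 : act A e ≠ 0 := fun h => he0 (by
      have := congrArg (act A⁻¹) h
      rwa [← act_mul, inv_mul_cancel, act, map_one, GU_one_mulVec, act, mulVec_zero] at this)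
    exact hall (act A e) e h1 he h2 he0 (map_fixT hF σ rfl hx)⟩
  obtain ⟨W, hW⟩ := Cfsg.Agent.Lib.PermTrans.Constituents.exists_compl σ C
  by_cases hWb : W.toSubmodule = ⊥
  · apply hc₀
    apply LinearMap.ext
    intro x
    have : x ∈ C.toSubmodule := by
      have h := hW.sup_eq_top
      rw [hWb, sup_bot_eq] at h
      rw [h]; trivial
    exact (mem_fixT hF σ).1 this c₀
  · have : Nontrivial W.toSubmodule := Submodule.nontrivial_iff_ne_bot.2 hWb
    obtain ⟨v, hv, hv0, hne⟩ := exists_fixed_point_in_plane hF W.toRepresentation hliu he hu heu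
    obtain ⟨x, hx, hx0⟩ := (Submodule.ne_bot_iff _).1 hne
    refine hx0 (Subtype.ext (Submodule.disjoint_def.1 hW.disjoint x.1 ?_ x.2))
    refine hall v e hv he hv0 he0 ((mem_fixT hF σ).2 fun c => ?_)
    have := (mem_eigSub W.toRepresentation (tvHom hF v hv)).1 hx c
    rw [AddChar.one_apply, one_smul] at this
    exact congrArg Subtype.val this

end Cfsg.Agent.Lib.UniDeg48
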