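import Cfsg.Agent.Lib.UniDeg48.Step
import Cfsg.Agent.Lib.PermTrans.Constituents
import Mathlib.Algebra.Group.Subgroup.Lattice

/-!
A totally isotropic plane always has a point whose transvection group has a fixed vector, and for
`n ≥ 4` some orthogonal transvection acts non-trivially on the fixed space of a transvection group.
-/

set_option autoImplicit false
set_option linter.unusedSectionVars false

namespace Cfsg.Agent.Lib.UniDeg48

open Matrix Module Cfsg.Agent.Lib.Unitary Cfsg.Agent.Lib.MinDegree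

variable {F : Type*} [Field F] [Fintype F] {q : ℕ} {n : ℕ}
variable {V : Type*} [AddCommGroup V] [Module ℂ V]

/-- A character of `F` killed by nothing but invariant under conjugation. -/
theorem exists_conj_invariant_char (hF : Fintype.card F = q ^ 2) :
    ∃ ψ : AddChar F ℂ, ψ.IsPrimitive ∧ ∀ y, ψ (y ^ q) = ψ y := by
  obtain ⟨ψ₀, hψ₀⟩ := (AddChar.exists_apply_ne_zero (a := (1 : F))).2 one_ne_zero
  refine ⟨ψ₀.compAddMonoidHom (trHom hF), AddChar.IsPrimitive.of_ne_one fun h => ?_, fun y => ?_⟩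
  · obtain ⟨x, hx⟩ := trace_surj hF (y := 1) (one_pow q)
    have := DFunLike.congr_fun h x
    rw [AddChar.compAddMonoidHom_apply, AddChar.one_apply, trHom_apply, hx] at this
    exact hψ₀ this
  · show ψ₀ (y ^ q + (y ^ q) ^ q) = ψ₀ (y + y ^ q)
    rw [pow_q_q hF, add_comm]

set_option maxHeartbeats 3000000 in
theorem exists_fixed_point_in_plane [FiniteDimensional ℂ V] [Nontrivial V]
    (hF : Fintype.card F = q ^ 2) (σ : Representation ℂ (SU n F q) V) {e e' : Fin n → F}
    (hli : LinearIndependent F ![e, e']) (he : hermForm n F q e e = 0)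
    (he' : hermForm n F q e' e' = 0) (hee' : hermForm n F q e e' = 0) :
    ∃ (v : Fin n → F) (hv : hermForm n F q v v = 0), v ≠ 0 ∧
      eigSub σ (tvHom hF v hv) 1 ≠ ⊥ := by
  classical
  have he'e : hermForm n F q e' e = 0 := herm_eq_zero_symm hF hee'
  by_cases hfix : eigSub σ (tvHom hF e he) 1 ≠ ⊥
  · exact ⟨e, he, by simpa using hli.ne_zero 0, hfix⟩
  push Not at hfix
  -- the mixed subgroup
  let z : F → (Fin n → F) := fun b => -(b ^ q) • e'
  have hze : ∀ b, hermForm n F q (z b) e = 0 := fun b => by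
    simp [z, herm_smul_left, herm_neg_left, he'e]
  have hzz : ∀ a b, hermForm n F q (z a) (z b) = 0 := fun a b => by
    simp [z, herm_smul_left, herm_smul_right, herm_neg_left, herm_neg_right _ _ hF, he']
  have hexU : ∀ p : T0 hF × F, ∃ X : SU n F q, IsEich e (z p.2) p.1.1 (suToGU n F q X) :=
    fun p => exists_eichS hF he (hze p.2) (by rw [hzz, add_zero, mem_T0.1 p.1.2])
  let U : Multiplicative (T0 hF × F) →* SU n F q :=
    MonoidHom.mk' (fun p => (hexU (Multiplicative.toAdd p)).choose) fun a b => by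
      have ha := (hexU (Multiplicative.toAdd a)).choose_spec
      have hb := (hexU (Multiplicative.toAdd b)).choose_spec
      have hab := (hexU (Multiplicative.toAdd (a * b))).choose_spec
      apply suToGU_injective
      rw [map_mul (suToGU n F q)]
      refine hab.unique ?_
      have h := ha.mul hF hb he (hze _) (hze _)
      rw [hzz, sub_zero] at h
      convert h using 1
      · simp only [z, toAdd_mul, Prod.snd_add, add_pow_q hF]
        rw [neg_add, add_smul]
      · simp
  have hU : ∀ (c : T0 hF) (b : F),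
      IsEich e (z b) c.1 (suToGU n F q (U (Multiplicative.ofAdd (c, b)))) := fun c b =>
    (hexU (c, b)).choose_spec
  have hUe' : ∀ p, act (U p) e' = e' := fun p => by
    obtain ⟨⟨c, b⟩, rfl⟩ := Multiplicative.ofAdd.surjective p
    rw [act, hU c b e', he'e]
    simp [z, herm_smul_right, herm_neg_right _ _ hF, he']
  let φ : Multiplicative (T0 hF × F) × Multiplicative (T0 hF) →* SU n F q :=
    MonoidHom.noncommCoprod U (tvHom hF e' he') fun p c =>
      tvHom_conj hF (U p) he' he' (hUe' p) (Multiplicative.toAdd c)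
  let τ : Multiplicative ((T0 hF × F) × T0 hF) →* SU n F q :=
    φ.comp (MulEquiv.prodMultiplicative (T0 hF × F) (T0 hF)).toMonoidHom
  have hτ : ∀ (c : T0 hF) (b : F) (c' : T0 hF), τ (Multiplicative.ofAdd ((c, b), c')) =
      U (Multiplicative.ofAdd (c, b)) * tvHom hF e' he' (Multiplicative.ofAdd c') := fun _ _ _ => rfl
  -- a common eigenvector
  have : Fintype ((T0 hF × F) × T0 hF) := Fintype.ofFinite _
  obtain ⟨u, hu⟩ := exists_ne (0 : V)
  obtain ⟨χ, w, hw0, hw⟩ : ∃ χ, Occurs σ τ χ := by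
    by_contra h
    push Not at h
    apply hu
    rw [← sum_eigenProj σ τ u]
    refine Finset.sum_eq_zero fun χ _ => ?_
    by_contra hne
    exact h χ ⟨_, hne, eigenProj_mem σ τ χ u⟩
  obtain ⟨δ, hδ0, hδ⟩ := exists_trace_zero_ne_zero hF
  have hδx : ∀ x : F, δ * (x + x ^ q) ∈ T0 hF := fun x => by
    rw [mem_T0, mul_pow, add_pow_q hF, pow_q_q hF]
    linear_combination (x + x ^ q) * hδ
  let D : F →+ T0 hF :=
    { toFun := fun x => ⟨δ * (x + x ^ q), hδx x⟩
      map_zero' := Subtype.ext (by simp [zero_pow_q hF])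
      map_add' := fun a b => Subtype.ext (by simp [add_pow_q hF]; ring) }
  obtain ⟨ψ, hψ, hψq⟩ := exists_conj_invariant_char hF
  have hsurj : ∀ η : AddChar F ℂ, ∃ a, ∀ x, η x = ψ (a * x) := by
    intro η
    have hbij : Function.Bijective (AddChar.mulShift ψ) :=
      (Fintype.bijective_iff_injective_and_card _).2
        ⟨AddChar.to_mulShift_inj_of_isPrimitive hψ, (AddChar.card_eq).symm⟩
    obtain ⟨a, ha⟩ := hbij.2 η
    exact ⟨a, fun x => by rw [← ha, AddChar.mulShift_apply]⟩
  let i1 : T0 hF →+ (T0 hF × F) × T0 hF :=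
    (AddMonoidHom.inl (T0 hF × F) (T0 hF)).comp (AddMonoidHom.inl (T0 hF) F)
  let i2 : F →+ (T0 hF × F) × T0 hF :=
    (AddMonoidHom.inl (T0 hF × F) (T0 hF)).comp (AddMonoidHom.inr (T0 hF) F)
  let i3 : T0 hF →+ (T0 hF × F) × T0 hF := AddMonoidHom.inr (T0 hF × F) (T0 hF)
  obtain ⟨a, ha⟩ := hsurj (χ.compAddMonoidHom (i1.comp D))
  obtain ⟨d, hd⟩ := hsurj (χ.compAddMonoidHom (i3.comp D))
  obtain ⟨g, hg⟩ := hsurj (χ.compAddMonoidHom (i2.comp (AddMonoidHom.mulLeft δ)))
  have hfixed : ∀ (η : AddChar F ℂ) (b : F), (∀ x, η x = ψ (b * x)) →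
      (∀ x, x + x ^ q = 0 → η x = 1) → b ^ q = b := by
    intro η b hb h0
    have h1 : ∀ y, ψ ((b - b ^ q) * y) = 1 := by
      intro y
      have h2 := h0 (y - y ^ q) (by rw [sub_pow_q hF, pow_q_q hF]; ring)
      rw [hb, mul_sub, sub_eq_add_neg, AddChar.map_add_eq_mul, AddChar.map_neg_eq_inv,
        ← hψq (b * y ^ q), mul_pow, pow_q_q hF, ← AddChar.map_neg_eq_inv,
        ← AddChar.map_add_eq_mul] at h2
      rwa [sub_mul, sub_eq_add_neg]
    by_contra hne
    have h0' : b - b ^ q ≠ 0 := sub_ne_zero.2 (Ne.symm hne)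
    exact hψ h0' (by ext y; rw [AddChar.mulShift_apply, h1, AddChar.one_apply])
  have hkill : ∀ (i : T0 hF →+ (T0 hF × F) × T0 hF) (x : F), x + x ^ q = 0 →
      χ.compAddMonoidHom (i.comp D) x = 1 := by
    intro i x hx
    have : D x = 0 := Subtype.ext (by show δ * (x + x ^ q) = 0; rw [hx, mul_zero])
    simp [this]
  have haq := hfixed _ a ha (hkill i1)
  have hdq := hfixed _ d hd (hkill i3)
  have hDsurj : ∀ c : T0 hF, ∃ x, D x = c := by
    intro c
    obtain ⟨x, hx⟩ := trace_surj hF (y := c.1 / δ) (by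
      rw [div_pow, show c.1 ^ q = -c.1 by linear_combination mem_T0.1 c.2,
        show δ ^ q = -δ by linear_combination hδ, neg_div_neg_eq])
    exact ⟨x, Subtype.ext (by show δ * (x + x ^ q) = c.1; rw [hx, mul_div_cancel₀ _ hδ0])⟩
  have ha0 : a ≠ 0 := by
    intro h0
    apply (Submodule.ne_bot_iff _).2 ⟨w, (mem_eigSub σ _).2 fun c => ?_, hw0⟩ hfix
    obtain ⟨x, hx⟩ := hDsurj c
    have h1 : tvHom hF e he (Multiplicative.ofAdd c) = τ (Multiplicative.ofAdd ((c, 0), 0)) := by
      rw [hτ, ofAdd_zero, map_one, mul_one]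
      apply su_ext
      intro y
      rw [tvHom_act, act, hU c 0 y]
      simp [z, zero_pow_q hF, herm_zero_right y hF]
    rw [h1, hw]
    have h2 := ha x
    simp only [AddChar.compAddMonoidHom_apply, AddMonoidHom.comp_apply, hx, h0, zero_mul,
      AddChar.map_zero_eq_one] at h2
    rw [show ((c, (0 : F)), (0 : T0 hF)) = i1 c from rfl, h2, AddChar.one_apply]
  -- choose the point
  obtain ⟨β, hβ⟩ := norm_surj hF (y := (g * g ^ q) / (a * a) - d / a) (by
    rw [sub_pow_q hF, div_pow, div_pow, mul_pow, mul_pow, pow_q_q hF, haq, hdq, mul_comm (g ^ q) g])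
  set α := β - g ^ q / a with hα
  have hαeq : a * (α * α ^ q) + (g * α + (g * α) ^ q) + d = 0 := by
    have hαq : α ^ q = β ^ q - g / a := by rw [hα, sub_pow_q hF, div_pow, pow_q_q hF, haq]
    rw [mul_pow, hαq, hα]
    field_simp at hβ ⊢
    linear_combination hβ
  have hv : hermForm n F q (α • e + e') (α • e + e') = 0 := by
    simp [herm_add_left, herm_add_right _ _ _ hF, herm_smul_left, herm_smul_right, he, he', hee',
      he'e]
  have hv0 : α • e + e' ≠ 0 := fun h => one_ne_zero (LinearIndependent.pair_iff.1 hli α 1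
    (by rw [one_smul]; exact h)).2
  refine ⟨_, hv, hv0, (Submodule.ne_bot_iff _).2 ⟨w, (mem_eigSub σ _).2 fun c => ?_, hw0⟩⟩
  obtain ⟨x, rfl⟩ := hDsurj c
  have hN : (α * α ^ q) ^ q = α * α ^ q := by rw [mul_pow, pow_q_q hF, mul_comm]
  have hid : tvHom hF (α • e + e') hv (Multiplicative.ofAdd (D x)) =
      τ (Multiplicative.ofAdd ((mulT0 hF (α * α ^ q) hN (D x), (D x).1 * α), D x)) := by
    rw [hτ]
    apply su_ext
    intro y
    rw [act_mul, tvHom_act, tvHom_act, act, hU]
    have hc := mem_T0.1 (D x).2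
    show _ = _ + _ + _
    simp only [z, mulT0, AddMonoidHom.coe_mk, ZeroHom.coe_mk, herm_add_left, herm_add_right _ _ _ hF,
      herm_smul_left, herm_smul_right, herm_neg_right _ _ hF, mul_pow, neg_pow_q hF, pow_q_q hF,
      he', he'e, mul_zero, add_zero]
    rw [show (D x).1 ^ q = -(D x).1 by linear_combination hc]
    ext i; simp; ring
  rw [hid, hw]
  have e1 : mulT0 hF (α * α ^ q) hN (D x) = D (α * α ^ q * x) := by
    apply Subtype.ext
    show α * α ^ q * (δ * (x + x ^ q)) = δ * (α * α ^ q * x + (α * α ^ q * x) ^ q)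
    rw [mul_pow, hN]
    ring
  have e2 : ((mulT0 hF (α * α ^ q) hN (D x), (D x).1 * α), D x) =
      (i1.comp D) (α * α ^ q * x) + (i2.comp (AddMonoidHom.mulLeft δ)) ((x + x ^ q) * α) +
        (i3.comp D) x := by
    refine Prod.ext (Prod.ext ?_ ?_) ?_
    · simp [i1, i2, i3, e1]
    · simp [i1, i2, i3, D, mul_assoc]
    · simp [i1, i2, i3]
  have h3 : ψ ((g * α) ^ q * x) = ψ (g * x ^ q * α) := by
    rw [← hψq (g * x ^ q * α), mul_pow, mul_pow, mul_pow, pow_q_q hF]
    ring_nf
  rw [e2, AddChar.map_add_eq_mul, AddChar.map_add_eq_mul]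
  have p1 := ha (α * α ^ q * x)
  have p2 := hg ((x + x ^ q) * α)
  have p3 := hd x
  simp only [AddChar.compAddMonoidHom_apply] at p1 p2 p3
  rw [p1, p2, p3, AddChar.one_apply]
  congr 1
  rw [show g * ((x + x ^ q) * α) = g * x * α + g * x ^ q * α by ring, AddChar.map_add_eq_mul, ← h3,
    ← AddChar.map_add_eq_mul, ← AddChar.map_add_eq_mul, ← AddChar.map_add_eq_mul,
    show a * (α * α ^ q * x) + (g * x * α + (g * α) ^ q * x) + d * x =
      (a * (α * α ^ q) + (g * α + (g * α) ^ q) + d) * x by ring, hαeq, zero_mul,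
    AddChar.map_zero_eq_one]

end Cfsg.Agent.Lib.UniDeg48
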