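import Cfsg.Agent.Lib.UniDeg48.Tv
import Cfsg.Agent.Lib.UniDeg48.Eigen

/-!
If the transvection group of an isotropic `v` acts non-trivially on a representation of `SU n` then
the degree exceeds the dimension of its fixed space by at least `(q - 1) q ^ (n - 2)`.
-/

set_option autoImplicit false
set_option linter.unusedSectionVars false

namespace Cfsg.Agent.Lib.UniDeg48

open Matrix Module Cfsg.Agent.Lib.Unitary Cfsg.Agent.Lib.MinDegree

variable {F : Type*} [Field F] [Fintype F] {q : ℕ} {n : ℕ}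
variable {V : Type*} [AddCommGroup V] [Module ℂ V]

/-- Scaling of trace-zero elements by a fixed element. -/
def mulT0 (hF : Fintype.card F = q ^ 2) (μ : F) (hμ : μ ^ q = μ) : T0 hF →+ T0 hF where
  toFun c := ⟨μ * c.1, mem_T0.2 (by rw [mul_pow, hμ, ← mul_add, mem_T0.1 c.2, mul_zero])⟩
  map_zero' := Subtype.ext (mul_zero μ)
  map_add' a b := Subtype.ext (mul_add μ a.1 b.1)

/-- The scalings of the transvection group of `v` are visible in the representation. -/
def Scal (hF : Fintype.card F = q ^ 2) (σ : Representation ℂ (SU n F q) V) : Prop :=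
  ∀ (v : Fin n → F) (hv : hermForm n F q v v = 0), v ≠ 0 → ∀ l : F, l ≠ 0 →
    ∃ T : V ≃ₗ[ℂ] V, ∀ c d : T0 hF, d.1 = c.1 * (l * l ^ q) → ∀ x,
      σ (tvHom hF v hv (Multiplicative.ofAdd d)) (T x) =
        T (σ (tvHom hF v hv (Multiplicative.ofAdd c)) x)

theorem eig_bound [FiniteDimensional ℂ V] (hF : Fintype.card F = q ^ 2)
    (σ : Representation ℂ (SU n F q) V) {e : Fin n → F} (he0 : e ≠ 0)
    (he : hermForm n F q e e = 0) {χ : AddChar (T0 hF) ℂ} (hχ : ∃ c, χ c ≠ 1)
    (hne : eigSub σ (tvHom hF e he) χ ≠ ⊥) :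
    q ^ (n - 2) ≤ finrank ℂ (eigSub σ (tvHom hF e he) χ) := by
  classical
  set W := eigSub σ (tvHom hF e he) χ
  obtain ⟨f, hf⟩ := exists_hyp hF he0 he
  obtain ⟨g, hg, hgo, -⟩ := hf.exists_complement hF
  let z : (Fin (n - 2) → F) → (Fin n → F) := fun x => ∑ i, x i • g i
  have hze : ∀ x, hermForm n F q (z x) e = 0 := fun x => by
    simp [z, herm_sum_left, herm_smul_left, (hgo _).1]
  have hzadd : ∀ a b, z (a + b) = z a + z b := fun a b => by
    simp [z, add_smul, Finset.sum_add_distrib]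
  have hex : ∀ a, ∃ (d : F) (X : SU n F q), d + d ^ q + hermForm n F q (z a) (z a) = 0 ∧
      IsEich e (z a) d (suToGU n F q X) ∧ (a = 0 → X = 1 ∧ d = 0) := by
    intro a
    by_cases ha : a = 0
    · refine ⟨0, 1, ?_, fun x => ?_, fun _ => ⟨rfl, rfl⟩⟩
      · simp [z, ha, zero_pow_q hF, herm_zero_left]
      · simp [z, ha, herm_zero_right x hF]
    · obtain ⟨d, hd⟩ := exists_eich_param hF (z a)
      obtain ⟨X, hX⟩ := exists_eichS hF he (hze a) hd
      exact ⟨d, X, hd, hX, fun h => absurd h ha⟩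
  choose d X hd hX hX0 using hex
  have hmap : ∀ a, ∀ w ∈ W, σ (X a) w ∈ W := fun a w hw =>
    map_eigSub σ (tvHom hF e he) (X a) (fun c => eich_comm_tv hF he (hze a) (hX a) c) hw
  let P : (Fin (n - 2) → F) → Module.End ℂ W := fun a => (σ (X a)).restrict (hmap a)
  have hmem : ∀ a b, d a + d b - hermForm n F q (z b) (z a) - d (a + b) ∈ T0 hF := fun a b => by
    rw [mem_T0]
    have h1 := hd a
    have h2 := hd b
    have h3 := hd (a + b)
    rw [hzadd, herm_add_left, herm_add_right _ _ _ hF, herm_add_right _ _ _ hF] at h3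
    rw [sub_pow_q hF, sub_pow_q hF, add_pow_q hF, herm_conj (z b) (z a) hF]
    linear_combination h1 + h2 - h3
  let C : (Fin (n - 2) → F) → (Fin (n - 2) → F) → ℂ := fun a b => χ ⟨_, hmem a b⟩
  have hP : ∀ a b, P a * P b = C a b • P (a + b) := by
    intro a b
    have h1 : IsEich e (z (a + b)) (d a + d b - hermForm n F q (z b) (z a))
        (suToGU n F q (X a * X b)) := by
      rw [hzadd, map_mul]
      exact (hX a).mul hF (hX b) he (hze a) (hze b)
    have h2 := eich_eq_mul_tv hF he (hze (a + b)) h1 (hX (a + b)) ⟨_, hmem a b⟩ rfl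
    apply LinearMap.ext
    intro w
    apply Subtype.ext
    show σ (X a) (σ (X b) w.1) = C a b • σ (X (a + b)) w.1
    rw [← Module.End.mul_apply, ← map_mul, h2, map_mul, Module.End.mul_apply]
    exact (mem_eigSub σ _).1 (hmap (a + b) w.1 w.2) _
  have hP0 : P 0 = 1 := by
    apply LinearMap.ext
    intro w
    apply Subtype.ext
    show σ (X 0) w.1 = w.1
    rw [(hX0 0 rfl).1, map_one, Module.End.one_apply]
  have hnd : ∀ a, a ≠ 0 → ∃ b, C a b ≠ C b a := by
    intro a ha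
    obtain ⟨c, hc⟩ := hχ
    obtain ⟨y, hy⟩ := exists_sub_conj hF c
    obtain ⟨j, hj⟩ := Function.ne_iff.1 ha
    rw [Pi.zero_apply] at hj
    refine ⟨Pi.single j ((y / a j) ^ q), fun h => hc ?_⟩
    set b : Fin (n - 2) → F := Pi.single j ((y / a j) ^ q)
    have hab : hermForm n F q (z a) (z b) = y := by
      have hzb : z b = (y / a j) ^ q • g j := by
        simp [z, b, Pi.single_apply, ite_smul]
      rw [hzb, herm_smul_right, orthonormal_coeff hg, pow_q_q hF, div_mul_cancel₀ _ hj]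
    have e1 : (⟨_, hmem b a⟩ : T0 hF) + c = ⟨_, hmem a b⟩ := by
      apply Subtype.ext
      show d b + d a - hermForm n F q (z a) (z b) - d (b + a) + c.1 = _
      rw [← hy, ← hab, herm_conj (z a) (z b) hF, add_comm b a]
      ring
    have e2 : C a b = C b a * χ c := by
      show χ _ = χ _ * χ c
      rw [← AddChar.map_add_eq_mul, e1]
    rw [h] at e2
    exact (mul_right_eq_self₀.1 e2.symm).resolve_right (AddChar.val_isUnit χ _).ne_zero
  have hpos : 0 < finrank ℂ W := by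
    rw [Nat.pos_iff_ne_zero]
    exact fun h => hne (Submodule.finrank_eq_zero.1 h)
  have := card_le_sq_of_projective hpos P C (fun a b => (AddChar.val_isUnit χ _).ne_zero) hP0 hP hnd
  rw [Nat.card_eq_fintype_card, Fintype.card_fun, Fintype.card_fin, hF, ← pow_mul,
    mul_comm 2 (n - 2), pow_mul, sq] at this
  exact Nat.mul_self_le_mul_self_iff.1 this

theorem step_bound [FiniteDimensional ℂ V] (hF : Fintype.card F = q ^ 2)
    (σ : Representation ℂ (SU n F q) V) (hsc : Scal hF σ) {e : Fin n → F} (he0 : e ≠ 0)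
    (he : hermForm n F q e e = 0) {c₀ : T0 hF}
    (hc₀ : σ (tvHom hF e he (Multiplicative.ofAdd c₀)) ≠ 1) :
    finrank ℂ (eigSub σ (tvHom hF e he) 1) + (q - 1) * q ^ (n - 2) ≤ finrank ℂ V := by
  classical
  set τ := tvHom hF e he
  have : Fintype (T0 hF) := Fintype.ofFinite _
  obtain ⟨χ, hχ, hocc⟩ := exists_occurs σ τ hc₀
  let K := {μ : F // μ ^ q = μ ∧ μ ≠ 0}
  let f : K → AddChar (T0 hF) ℂ := fun μ => χ.compAddMonoidHom (mulT0 hF μ.1 μ.2.1)
  have hinj : Function.Injective f := by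
    intro μ ν h
    by_contra hne
    have hne' : μ.1 - ν.1 ≠ 0 := sub_ne_zero.2 fun h => hne (Subtype.ext h)
    apply hχ
    have hmem : c₀.1 / (μ.1 - ν.1) ∈ T0 hF := by
      rw [mem_T0, div_pow, sub_pow_q hF, μ.2.1, ν.2.1, ← add_div, mem_T0.1 c₀.2, zero_div]
    let c : T0 hF := ⟨_, hmem⟩
    have e1 : mulT0 hF μ.1 μ.2.1 c = c₀ + mulT0 hF ν.1 ν.2.1 c := by
      apply Subtype.ext
      show μ.1 * (c₀.1 / (μ.1 - ν.1)) = c₀.1 + ν.1 * (c₀.1 / (μ.1 - ν.1))
      field_simp
      ring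
    have h2 := DFunLike.congr_fun h c
    simp only [f, AddChar.compAddMonoidHom_apply, e1, AddChar.map_add_eq_mul] at h2
    exact (mul_left_eq_self₀.1 h2).resolve_right (AddChar.val_isUnit χ _).ne_zero
  have hnt : ∀ μ : K, ∃ c, f μ c ≠ 1 := by
    intro μ
    refine ⟨mulT0 hF μ.1⁻¹ (by rw [inv_pow, μ.2.1]) c₀, ?_⟩
    show χ (mulT0 hF μ.1 μ.2.1 (mulT0 hF μ.1⁻¹ _ c₀)) ≠ 1
    convert hχ
    apply Subtype.ext
    show μ.1 * (μ.1⁻¹ * c₀.1) = c₀.1
    rw [mul_inv_cancel_left₀ μ.2.2]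
  have hoccf : ∀ μ : K, eigSub σ τ (f μ) ≠ ⊥ := by
    intro μ
    have hμi : (μ.1⁻¹) ^ q = μ.1⁻¹ := by rw [inv_pow, μ.2.1]
    obtain ⟨l, hl⟩ := norm_surj hF hμi
    have hl0 : l ≠ 0 := fun h => inv_ne_zero μ.2.2 (by rw [← hl, h, zero_mul])
    obtain ⟨T, hT⟩ := hsc e he he0 l hl0
    obtain ⟨v, hv0, hv⟩ := hocc
    rw [← occurs_iff_eigSub]
    refine ⟨T v, fun h => hv0 (by simpa using h), fun a => ?_⟩
    rw [hT (mulT0 hF μ.1 μ.2.1 a) a (by
      show a.1 = μ.1 * a.1 * (l * l ^ q)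
      rw [hl, mul_comm μ.1 a.1, mul_assoc, mul_inv_cancel₀ μ.2.2, mul_one]) v, hv, map_smul]
    rfl
  have hcard : Nat.card K = q - 1 := by
    have h := card_fixed hF
    rw [Nat.card_eq_fintype_card] at h ⊢
    rw [Fintype.card_subtype] at h ⊢
    rw [show ({μ : F | μ ^ q = μ ∧ μ ≠ 0} : Finset F) = ({μ : F | μ ^ q = μ} : Finset F).erase 0 by
      ext; simp [and_comm], Finset.card_erase_of_mem (by simp [zero_pow_q hF]), h]
  have h := add_card_mul_le σ τ (Finset.univ.image f) (by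
    simp only [Finset.mem_image, Finset.mem_univ, true_and, not_exists]
    intro μ hμ
    obtain ⟨c, hc⟩ := hnt μ
    exact hc (by rw [hμ, AddChar.one_apply])) (d := q ^ (n - 2)) (by
    simp only [Finset.mem_image, Finset.mem_univ, true_and, forall_exists_index]
    rintro _ μ rfl
    exact eig_bound hF σ he0 he (hnt μ) (hoccf μ))
  rwa [Finset.card_image_of_injective _ hinj, Finset.card_univ, ← Nat.card_eq_fintype_card,
    hcard] at h

/-- For `n ≥ 3` the scalings come from `SU n` itself. -/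
theorem scal_of_three (hF : Fintype.card F = q ^ 2) (hn : 3 ≤ n)
    (σ : Representation ℂ (SU n F q) V) : Scal hF σ := by
  intro v hv hv0 l hl
  obtain ⟨A, hAdet, hAv⟩ := exists_SU_isotropic hF hn hv0 hv (e' := l • v) (smul_ne_zero hl hv0)
    (by rw [herm_smul_left, herm_smul_right, hv, mul_zero, mul_zero])
  obtain ⟨X, hX⟩ := exists_pre A hAdet
  have hinv : ∀ w, σ X (σ X⁻¹ w) = w ∧ σ X⁻¹ (σ X w) = w := fun w => by
    constructor <;> rw [← Module.End.mul_apply, ← map_mul] <;> simp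
  refine ⟨LinearEquiv.ofLinearMap (σ X) (σ X⁻¹) (LinearMap.ext fun w => (hinv w).1)
    (LinearMap.ext fun w => (hinv w).2), fun c d hd x => ?_⟩
  show σ _ (σ X x) = σ X (σ _ x)
  rw [← Module.End.mul_apply, ← map_mul, ← Module.End.mul_apply, ← map_mul]
  have hlv : hermForm n F q (l • v) (l • v) = 0 := by
    rw [herm_smul_left, herm_smul_right, hv, mul_zero, mul_zero]
  rw [tvHom_conj hF X hv hlv (by rw [act, hX, hAv]) c, tvHom_smul hF hv hlv c d hd]

end Cfsg.Agent.Lib.UniDeg48
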