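import Cfsg.Agent.Lib.Unitary.Generation

/-!
Transvection subgroups and Eichler elements inside `SU n`.
-/

set_option autoImplicit false
set_option linter.unusedSectionVars false

namespace Cfsg.Agent.Lib.UniDeg48

open Matrix Module Cfsg.Agent.Lib.Unitary

variable {F : Type*} [Field F] [Fintype F] {q : ℕ} {n : ℕ}

/-- The group of trace-zero elements. -/
def T0 (hF : Fintype.card F = q ^ 2) : AddSubgroup F := (trHom hF).ker

theorem mem_T0 {hF : Fintype.card F = q ^ 2} {c : F} : c ∈ T0 hF ↔ c + c ^ q = 0 :=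
  AddMonoidHom.mem_ker

theorem card_T0 (hF : Fintype.card F = q ^ 2) : Nat.card (T0 hF) = q := card_trace_zero hF

theorem exists_sub_conj (hF : Fintype.card F = q ^ 2) (c : T0 hF) : ∃ y : F, y - y ^ q = c.1 := by
  obtain ⟨x, hx⟩ := trace_surj hF (y := 1) (one_pow q)
  refine ⟨c.1 * x, ?_⟩
  have hc := mem_T0.1 c.2
  rw [mul_pow, show c.1 ^ q = -c.1 by linear_combination hc, neg_mul, sub_neg_eq_add, ← mul_add, hx,
    mul_one]

/-- The action on vectors. -/
noncomputable abbrev act (A : SU n F q) (x : Fin n → F) : Fin n → F := (suToGU n F q A).1.1 *ᵥ x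

theorem act_mul (A B : SU n F q) (x : Fin n → F) : act (A * B) x = act A (act B x) := by
  rw [act, map_mul, GU_mul_mulVec]

theorem su_ext {A B : SU n F q} (h : ∀ x, act A x = act B x) : A = B :=
  suToGU_injective (GU_ext h)

theorem exists_pre (A : GU n F q) (hA : A.1.1.det = 1) : ∃ X, suToGU n F q X = A := by
  rw [← MonoidHom.mem_range, suToGU_range]
  exact MonoidHom.mem_ker.2 (Units.ext hA)

theorem exists_tvS (hF : Fintype.card F = q ^ 2) (v : Fin n → F)
    (hv : hermForm n F q v v = 0) (c : T0 hF) :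
    ∃ X : SU n F q, IsTvAt v c.1 (suToGU n F q X) := by
  obtain ⟨A, hA, hd⟩ := exists_tv hF hv (mem_T0.1 c.2)
  obtain ⟨X, hX⟩ := exists_pre A hd
  exact ⟨X, hX ▸ hA⟩

/-- The transvection group of an isotropic vector. -/
noncomputable def tvHom (hF : Fintype.card F = q ^ 2) (v : Fin n → F)
    (hv : hermForm n F q v v = 0) : Multiplicative (T0 hF) →* SU n F q :=
  MonoidHom.mk' (fun c => (exists_tvS hF v hv (Multiplicative.toAdd c)).choose) fun a b => by
    have ha := (exists_tvS hF v hv (Multiplicative.toAdd a)).choose_spec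
    have hb := (exists_tvS hF v hv (Multiplicative.toAdd b)).choose_spec
    have hab := (exists_tvS hF v hv (Multiplicative.toAdd (a * b))).choose_spec
    apply su_ext
    intro x
    rw [act_mul, act, act, act, hab, ha, hb, herm_add_left, herm_smul_left, hv, mul_zero, add_zero,
      toAdd_mul, AddSubgroup.coe_add]
    ext i; simp; ring

theorem tvHom_spec (hF : Fintype.card F = q ^ 2) (v : Fin n → F)
    (hv : hermForm n F q v v = 0) (c : T0 hF) :
    IsTvAt v c.1 (suToGU n F q (tvHom hF v hv (Multiplicative.ofAdd c))) :=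
  (exists_tvS hF v hv c).choose_spec

theorem tvHom_act (hF : Fintype.card F = q ^ 2) (v : Fin n → F)
    (hv : hermForm n F q v v = 0) (c : T0 hF) (x : Fin n → F) :
    act (tvHom hF v hv (Multiplicative.ofAdd c)) x = x + (c.1 * hermForm n F q x v) • v :=
  tvHom_spec hF v hv c x

theorem herm_act (A : SU n F q) (u v : Fin n → F) :
    hermForm n F q (act A u) (act A v) = hermForm n F q u v := GU_herm u v (suToGU n F q A)

theorem act_isotropic (A : SU n F q) {v : Fin n → F} (hv : hermForm n F q v v = 0) :
    hermForm n F q (act A v) (act A v) = 0 := by rw [herm_act, hv]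

/-- Conjugating a transvection group. -/
theorem tvHom_conj (hF : Fintype.card F = q ^ 2) (A : SU n F q) {v w : Fin n → F}
    (hv : hermForm n F q v v = 0) (hw : hermForm n F q w w = 0) (hAv : act A v = w) (c : T0 hF) :
    A * tvHom hF v hv (Multiplicative.ofAdd c) = tvHom hF w hw (Multiplicative.ofAdd c) * A := by
  apply su_ext
  intro x
  rw [act_mul, act_mul, tvHom_act, tvHom_act]
  show (suToGU n F q A).1.1 *ᵥ _ = _
  rw [mulVec_add, mulVec_smul]
  subst hAv
  rw [herm_act]

/-- Scalar multiples. -/
theorem tvHom_smul (hF : Fintype.card F = q ^ 2) {v : Fin n → F} (hv : hermForm n F q v v = 0)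
    {l : F} (hlv : hermForm n F q (l • v) (l • v) = 0) (c d : T0 hF) (hd : d.1 = c.1 * (l * l ^ q)) :
    tvHom hF (l • v) hlv (Multiplicative.ofAdd c) = tvHom hF v hv (Multiplicative.ofAdd d) := by
  apply su_ext
  intro x
  rw [tvHom_act, tvHom_act, herm_smul_right, hd, smul_smul]
  congr 2
  ring

/-- An Eichler element of `SU n`. -/
theorem exists_eichS (hF : Fintype.card F = q ^ 2) {e z : Fin n → F}
    (he : hermForm n F q e e = 0) (hze : hermForm n F q z e = 0) {d : F}
    (hd : d + d ^ q + hermForm n F q z z = 0) :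
    ∃ X : SU n F q, IsEich e z d (suToGU n F q X) := by
  obtain ⟨A, hA, hdet⟩ := exists_eich hF he hze hd
  obtain ⟨X, hX⟩ := exists_pre A hdet
  exact ⟨X, hX ▸ hA⟩

/-- Two Eichler elements with the same axis and vector differ by a transvection. -/
theorem eich_eq_mul_tv (hF : Fintype.card F = q ^ 2) {e z : Fin n → F}
    (he : hermForm n F q e e = 0) (hze : hermForm n F q z e = 0) {d d' : F} {X Y : SU n F q}
    (hX : IsEich e z d (suToGU n F q X)) (hY : IsEich e z d' (suToGU n F q Y))
    (c : T0 hF) (hc : c.1 = d - d') :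
    X = tvHom hF e he (Multiplicative.ofAdd c) * Y := by
  apply su_ext
  intro x
  rw [act_mul, tvHom_act, act, act, hX x, hY x, herm_add_left, herm_add_left, herm_smul_left,
    herm_smul_left, hze, he, hc]
  ext i; simp; ring

theorem eich_comm_tv (hF : Fintype.card F = q ^ 2) {e z : Fin n → F}
    (he : hermForm n F q e e = 0) (hze : hermForm n F q z e = 0) {d : F} {X : SU n F q}
    (hX : IsEich e z d (suToGU n F q X)) (c : T0 hF) :
    Commute X (tvHom hF e he (Multiplicative.ofAdd c)) := by
  have hXe : act X e = e := by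
    rw [act, hX e, he, herm_eq_zero_symm hF hze]
    simp
  exact tvHom_conj hF X he he hXe c

end Cfsg.Agent.Lib.UniDeg48
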